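import Groth.Agent.ExtShX.Basic
import Groth.Agent.KFlat.SchemeStalk
import Groth.Agent.KFlat.Pullback
import Groth.Agent.Horrocks.Bundles
import Groth.Agent.RDerLib.LES
import Groth.Agent.VanQF.Annih
import Mathlib.RingTheory.Regular.RegularSequence

/-!
# Vanishing of the sheaves `ℰxt^q(N, A)` below the length of an `A`-regular sequence killing `N`
-/

set_option autoImplicit false
set_option linter.style.haveILetI false
set_option backward.isDefEq.respectTransparency false
set_option backward.isDefEq.respectTransparency.types false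
set_option maxHeartbeats 1000000

universe u

open CategoryTheory CategoryTheory.Limits AlgebraicGeometry TopologicalSpace Opposite
open RingTheory.Sequence MonoidalCategory
open scoped TensorProduct Pointwise
open Groth.Agent.KFlat Groth.Agent.VanQF

noncomputable section

namespace Groth.Agent.RegImmExt

variable {U : Scheme.{u}}

/-- The germ of a global function. -/
abbrev germG (r : Γ(U, ⊤)) (x : U) : U.presheaf.stalk x := U.presheaf.germ ⊤ x trivial r

lemma mulEnd_natural {A B : U.Modules} (φ : A ⟶ B) (r : Γ(U, ⊤)) : mulEnd A r ≫ φ = φ ≫ mulEnd B r := by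
  refine Scheme.Modules.hom_ext _ _ fun W => ?_
  ext (s : Γ(A, W))
  change φ.app W ((mulEnd A r).app W s) = (mulEnd B r).app W (φ.app W s)
  rw [mulEnd_app, mulEnd_app, Scheme.Modules.Hom.app_smul]

lemma stalk_mulEnd (A : U.Modules) (r : Γ(U, ⊤)) (x : U) (m : (DerSch.stalkFunctor U x).obj A) :
    ((DerSch.stalkFunctor U x).map (mulEnd A r)).hom m = germG r x • m := by
  obtain ⟨W, hx, s, rfl⟩ := TopCat.Presheaf.germ_exist A.presheaf (m : A.presheaf.stalk x)
  refine (TopCat.Presheaf.stalkFunctor_map_germ_apply W x hx (mulEnd A r).mapPresheaf s).trans ?_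
  change A.presheaf.germ W x hx ((QC.resO U (le_top : W ≤ ⊤) r : Γ(U, W)) • (s : Γ(A, W))) = _
  refine (PresheafOfModules.germ_smul A.val x W hx _ _).trans ?_
  refine congr_arg (fun c : U.presheaf.stalk x => c • A.presheaf.germ W x hx s) ?_
  exact TopCat.Presheaf.germ_res_apply U.presheaf (homOfLE (le_top : W ≤ ⊤)) x hx r

lemma eq_zero_of_stalk {A B : U.Modules} (φ : A ⟶ B)
    (h : ∀ x : U, (DerSch.stalkFunctor U x).map φ = 0) : φ = 0 := by
  refine Scheme.Modules.hom_ext _ _ fun W => ?_
  ext (s : Γ(A, W))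
  change φ.app W s = 0
  refine QC.section_eq_of_locally fun x hx => ?_
  have h0 : B.presheaf.germ W x hx (φ.app W s) = B.presheaf.germ W x hx 0 := by
    rw [map_zero]
    refine (TopCat.Presheaf.stalkFunctor_map_germ_apply W x hx φ.mapPresheaf s).symm.trans ?_
    exact LinearMap.congr_fun (congr_arg (fun ψ => ψ.hom) (h x)) (A.presheaf.germ W x hx s)
  obtain ⟨W', hxW', i₁, i₂, e⟩ := TopCat.Presheaf.germ_eq B.presheaf x hx hx _ _ h0
  exact ⟨W', i₁.le, hxW', e.trans rfl⟩

lemma smul_stalk_eq_zero {A : U.Modules} {r : Γ(U, ⊤)} (h : mulEnd A r = 0) (x : U)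
    (m : (DerSch.stalkFunctor U x).obj A) : germG r x • m = 0 := by
  rw [← stalk_mulEnd, h, Functor.map_zero]
  rfl

lemma mulEnd_tensor_eq_zero {N : U.Modules} {r : Γ(U, ⊤)} (h : mulEnd N r = 0) (Y : U.Modules) :
    mulEnd (((DCoh.tensorBi (X := U)).obj N).obj Y) r = 0 := by
  refine eq_zero_of_stalk _ fun x => ModuleCat.hom_ext (LinearMap.ext fun m => ?_)
  rw [stalk_mulEnd]
  let e := (KFlat.stTensorIso N Y x).toLinearEquiv
  obtain ⟨t, rfl⟩ := e.surjective m
  rw [← map_smul]
  have ht : ∀ t : ((DerSch.stalkFunctor U x).obj N) ⊗[U.presheaf.stalk x] ((DerSch.stalkFunctor U x).obj Y),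
      germG r x • t = 0 := fun t => by
    induction t using TensorProduct.induction_on with
    | zero => exact smul_zero _
    | tmul a b => rw [TensorProduct.smul_tmul', smul_stalk_eq_zero h, TensorProduct.zero_tmul]
    | add a b ha hb => rw [smul_add, ha, hb, add_zero]
  exact (congr_arg e (ht t)).trans (map_zero e)

lemma sheafHom_map_mulEnd {N : U.Modules} {r : Γ(U, ⊤)} (h : mulEnd N r = 0) (A : U.Modules) :
    (DCoh.sheafHom N).map (mulEnd A r) = 0 := by
  let a := DCoh.sheafHomAdj N
  obtain ⟨g, hg⟩ := (a.homEquiv ((DCoh.sheafHom N).obj A) A).surjective (𝟙 _)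
  rw [← Category.id_comp ((DCoh.sheafHom N).map (mulEnd A r)), ← hg, ← a.homEquiv_naturality_right,
    ← mulEnd_natural, mulEnd_tensor_eq_zero h, zero_comp]
  exact (a.homAddEquiv _ _).map_zero

lemma R_map_mulEnd {N : U.Modules} {r : Γ(U, ⊤)} (h : mulEnd N r = 0) (A : U.Modules) (q : ℕ) :
    (ExtShX.R N q).map (mulEnd A r) = 0 := by
  let I := injectiveResolution A
  let φ : I.cocomplex ⟶ I.cocomplex :=
    { f := fun n => mulEnd (I.cocomplex.X n) r
      comm' := fun i j _ => mulEnd_natural (I.cocomplex.d i j) r }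
  have hφ : ((DCoh.sheafHom N).mapHomologicalComplex (ComplexShape.up ℕ)).map φ = 0 := by
    ext n : 1
    exact sheafHom_map_mulEnd h _
  have hn := InjectiveResolution.isoRightDerivedObj_hom_naturality (mulEnd A r) I I φ
    (mulEnd_natural (I.ι.f 0) r).symm (DCoh.sheafHom N) q
  rw [← cancel_mono (I.isoRightDerivedObj (DCoh.sheafHom N) q).hom, zero_comp, hn]
  simp [hφ]

lemma regular_cokernel (A : U.Modules) (r : Γ(U, ⊤)) (rs : List Γ(U, ⊤)) (x : U)
    (h : IsWeaklyRegular ((DerSch.stalkFunctor U x).obj A) ((r :: rs).map (germG · x))) :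
    IsWeaklyRegular ((DerSch.stalkFunctor U x).obj (cokernel (mulEnd A r))) (rs.map (germG · x)) := by
  rw [List.map_cons, isWeaklyRegular_cons_iff] at h
  let st := DerSch.stalkFunctor U x
  let π := st.map (cokernel.π (mulEnd A r))
  have hsurj : Function.Surjective π.hom := (ModuleCat.epi_iff_surjective π).mp inferInstance
  have hex : (ShortComplex.mk (mulEnd A r) (cokernel.π _) (cokernel.condition _)).Exact :=
    ShortComplex.exact_cokernel _
  have hex' := (ShortComplex.moduleCat_exact_iff_range_eq_ker _).mp (hex.map st)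
  have hker : LinearMap.ker π.hom = germG r x • (⊤ : Submodule (U.presheaf.stalk x) (st.obj A)) := by
    refine hex'.symm.trans (Submodule.ext fun m => ?_)
    rw [LinearMap.mem_range, Submodule.mem_smul_pointwise_iff_exists]
    exact ⟨fun ⟨b, hb⟩ => ⟨b, trivial, (stalk_mulEnd A r x b).symm.trans hb⟩,
      fun ⟨b, _, hb⟩ => ⟨b, (stalk_mulEnd A r x b).trans hb⟩⟩
  let e : QuotSMulTop (germG r x) (st.obj A) ≃ₗ[U.presheaf.stalk x] st.obj (cokernel (mulEnd A r)) :=
    (Submodule.quotEquivOfEq _ _ hker.symm).trans (π.hom.quotKerEquivOfSurjective hsurj)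
  exact (e.isWeaklyRegular_congr _).mp h.2

lemma mono_mulEnd_of_regular (A : U.Modules) (r : Γ(U, ⊤))
    (h : ∀ x : U, IsSMulRegular ((DerSch.stalkFunctor U x).obj A) (germG r x)) : Mono (mulEnd A r) := by
  refine Preadditive.mono_of_isZero_kernel _ ?_
  rw [IsZero.iff_id_eq_zero]
  refine eq_zero_of_stalk _ fun x => ?_
  have : Mono ((DerSch.stalkFunctor U x).map (mulEnd A r)) := by
    rw [ModuleCat.mono_iff_injective]
    intro a b hab
    refine h x ?_
    change germG r x • a = germG r x • b
    rw [← stalk_mulEnd, ← stalk_mulEnd, hab]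
  have hk : (DerSch.stalkFunctor U x).map (kernel.ι (mulEnd A r)) = 0 :=
    (cancel_mono ((DerSch.stalkFunctor U x).map (mulEnd A r))).1 (by
      rw [← Functor.map_comp, kernel.condition, Functor.map_zero, zero_comp])
  exact (cancel_mono ((DerSch.stalkFunctor U x).map (kernel.ι (mulEnd A r)))).1 (by
    rw [hk, comp_zero, comp_zero])

theorem isZero_R {N : U.Modules} : ∀ (rs : List Γ(U, ⊤)) (_ : ∀ r ∈ rs, mulEnd N r = 0) (A : U.Modules),
    (∀ x : U, IsWeaklyRegular ((DerSch.stalkFunctor U x).obj A) (rs.map (germG · x))) →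
      ∀ q < rs.length, IsZero ((ExtShX.R N q).obj A)
  | [], _, _, _, q, hq => absurd hq (Nat.not_lt_zero q)
  | r :: rs, hN, A, hA, q, hq => by
    haveI : Mono (mulEnd A r) := mono_mulEnd_of_regular A r fun x => by
      have := hA x
      rw [List.map_cons, isWeaklyRegular_cons_iff] at this
      exact this.1
    have h0 := hN r (List.mem_cons_self ..)
    rcases q with _ | q
    · refine IsZero.of_iso ?_ (ExtShX.zeroIso N A)
      exact IsZero.of_mono_eq_zero _ (sheafHom_map_mulEnd h0 A)
    · have hS := cokerSeq_shortExact A r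
      have hex := RDerLib.exact₁ (DCoh.sheafHom N) (RDerLib.res hS) q (q + 1) rfl
      haveI : HasInjectiveResolutions U.Modules := inferInstance
      exact hex.isZero_of_both_zeros
        ((isZero_R rs (fun s hs => hN s (List.mem_cons_of_mem _ hs)) (cokernel (mulEnd A r))
          (fun x => regular_cokernel A r rs x (hA x)) q (by simpa using hq)).eq_of_src _ _)
        (R_map_mulEnd h0 A (q + 1))

end Groth.Agent.RegImmExt
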