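import Groth.Agent.RegImmExt.Basic
import Groth.Agent.ExtShX.Global
import Groth.Agent.ExtShX.Restrict
import Groth.Agent.GRLib.Supp
import Groth.Agent.ExtShX.DepthCrit
import Groth.Agent.DerPerf.Local
import Groth.Agent.LocFree.Props
import Groth.Prelude.Def_RegImm
import Mathlib.RingTheory.Regular.Flat

/-!
# `Ext^q(i_*F, E) = 0` below the codimension of a regular immersion
-/

set_option autoImplicit false
set_option linter.style.haveILetI false
set_option backward.isDefEq.respectTransparency false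
set_option backward.isDefEq.respectTransparency.types false
set_option maxHeartbeats 1000000

universe u

open CategoryTheory CategoryTheory.Limits AlgebraicGeometry TopologicalSpace Opposite
open RingTheory.Sequence
open scoped TensorProduct
open Groth.Agent.VanQF

noncomputable section

namespace Groth.Agent.RegImmExt

variable {X Z : Scheme.{u}}

lemma isWeaklyRegular_replicate_one {R : Type u} [CommRing R] (n : ℕ) :
    ∀ (M : Type u) [AddCommGroup M] [Module R M], IsWeaklyRegular M (List.replicate n (1 : R)) := by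
  induction n with
  | zero => intro M _ _; exact IsWeaklyRegular.nil R M
  | succ n ih =>
    intro M _ _
    rw [List.replicate_succ, isWeaklyRegular_cons_iff]
    exact ⟨IsSMulRegular.one M, ih _⟩

lemma isWeaklyRegular_free {R : Type u} [CommRing R] {M : Type u} [AddCommGroup M] [Module R M]
    [Module.Free R M] {rs : List R} (h : IsWeaklyRegular R rs) : IsWeaklyRegular M rs :=
  ((TensorProduct.lid R M).isWeaklyRegular_congr rs).mp (h.isWeaklyRegular_rTensor (M₂ := M))

lemma isWeaklyRegular_germ {V : X.Opens} (hV : IsAffineOpen V) (rs : List Γ(X, V)) (h : IsWeaklyRegular Γ(X, V) rs)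
    (y : V.toScheme) :
    IsWeaklyRegular (V.toScheme.presheaf.stalk y)
      ((rs.map (QC.resO X (V.ι_image_top).le)).map (germG (U := V.toScheme) · y)) := by
  let φ : Γ(X, V) →+* Γ(V.toScheme, ⊤) := QC.resO X (V.ι_image_top).le
  have hbij : Function.Bijective φ :=
    Function.bijective_iff_has_inverse.mpr ⟨QC.resO X (V.ι_image_top).ge,
      fun a => (QC.resO_resO (X := X) _ _ a).trans (QC.resO_self _ _), fun a => (QC.resO_resO (X := X) _ _ a).trans (QC.resO_self _ _)⟩
  letI : Algebra Γ(X, V) Γ(V.toScheme, ⊤) := φ.toAlgebra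
  haveI : Module.Flat Γ(X, V) Γ(V.toScheme, ⊤) := RingHom.Flat.of_bijective hbij
  have h1 : IsWeaklyRegular Γ(V.toScheme, ⊤) (rs.map φ) := h.of_flat
  haveI : IsAffine V.toScheme := hV
  have hT : IsAffineOpen (⊤ : V.toScheme.Opens) := isAffineOpen_top _
  letI : Algebra Γ(V.toScheme, ⊤) (V.toScheme.presheaf.stalk y) :=
    (V.toScheme.presheaf.germ ⊤ y trivial).hom.toAlgebra
  haveI := hT.isLocalization_stalk ⟨y, trivial⟩
  haveI : Module.Flat Γ(V.toScheme, ⊤) (V.toScheme.presheaf.stalk y) :=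
    IsLocalization.flat _ (hT.primeIdealOf ⟨y, trivial⟩).asIdeal.primeCompl
  exact h1.of_flat

lemma mulEnd_eq_zero_of_iso {U : Scheme.{u}} {N N' : U.Modules} (e : N ≅ N') {r : Γ(U, ⊤)}
    (h : mulEnd N r = 0) : mulEnd N' r = 0 := by
  rw [← cancel_epi e.hom, ← mulEnd_natural, h, zero_comp, comp_zero]

theorem isZero_R_pushforward (i : Z ⟶ X) [IsClosedImmersion i] (c : ℕ)
    (hi : RegImm.IsRegularImmersionOfCodim RegImm.Kind.regular c i) (E : X.Modules)
    (hE : FlatMod.IsFinLocFree E) (F : Z.Modules) (q : ℕ) (hq : q < c) :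
    IsZero ((ExtShX.R ((Scheme.Modules.pushforward i).obj F) q).obj E) := by
  let N := (Scheme.Modules.pushforward i).obj F
  refine GRLib.isZero_of_support_eq_empty _ (Set.eq_empty_iff_forall_notMem.mpr fun x hx => ?_)
  obtain ⟨V, hxV, rs, hlen, hkill, hreg⟩ : ∃ (V : X.Opens), x ∈ V ∧ ∃ rs : List Γ(V.toScheme, ⊤), rs.length = c ∧
      (∀ r ∈ rs, mulEnd (N.restrict V.ι) r = 0) ∧
      ∀ y : V.toScheme, IsWeaklyRegular (V.toScheme.presheaf.stalk y) (rs.map (germG · y)) := by
    by_cases hxi : x ∈ Set.range i.base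
    · obtain ⟨z, rfl⟩ := hxi
      obtain ⟨U, hzU, -, rs, hlen, hseq, hker⟩ := hi.2 z
      refine ⟨U.1, hzU, rs.map (QC.resO X (U.1.ι_image_top).le), by simpa using hlen, fun r hr => ?_,
        isWeaklyRegular_germ U.2 rs hseq.toIsWeaklyRegular⟩
      obtain ⟨r0, hr0, rfl⟩ := List.mem_map.mp hr
      have h0 : i.app U.1 r0 = 0 := by
        have : r0 ∈ RingHom.ker (i.app U.1).hom := hker.ge (Ideal.subset_span hr0)
        exact this
      refine Scheme.Modules.hom_ext _ _ fun W => ?_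
      ext (s : Γ(F, i ⁻¹ᵁ (U.1.ι ''ᵁ W)))
      change (i.app (U.1.ι ''ᵁ W) ((U.1.ι.appIso W).inv (QC.resO U.1.toScheme (le_top : W ≤ ⊤)
        (QC.resO X (U.1.ι_image_top).le r0))) : Γ(Z, i ⁻¹ᵁ (U.1.ι ''ᵁ W))) • s = 0
      rw [Scheme.Opens.ι_appIso]
      change (i.app (U.1.ι ''ᵁ W) (QC.resO X (show U.1.ι ''ᵁ W ≤ U.1.ι ''ᵁ ⊤ from U.1.ι.image_mono le_top)
        (QC.resO X (U.1.ι_image_top).le r0)) : Γ(Z, i ⁻¹ᵁ (U.1.ι ''ᵁ W))) • s = 0
      rw [QC.resO_resO]
      have hnat : ∀ {V' : X.Opens} (h : V' ≤ U.1),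
          i.app V' (QC.resO X h r0) = QC.resO Z (i.preimage_mono h) (i.app U.1 r0) := fun h =>
        ConcreteCategory.congr_hom (i.naturality (homOfLE h).op) r0
      rw [hnat, h0, map_zero, zero_smul]
    · let W₀ : X.Opens := ⟨(Set.range i.base)ᶜ, i.isClosedEmbedding.isClosed_range.isOpen_compl⟩
      refine ⟨W₀, hxi, List.replicate c 1, List.length_replicate .., fun r _ => ?_, fun y => ?_⟩
      · refine Scheme.Modules.hom_ext _ _ fun W => ?_
        ext (s : Γ(F, i ⁻¹ᵁ (W₀.ι ''ᵁ W)))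
        refine QC.section_eq_of_locally (X := Z) (M := F) (U := i ⁻¹ᵁ (W₀.ι ''ᵁ W)) fun z hz => absurd (⟨z, rfl⟩ : i.base z ∈ Set.range i.base) ?_
        have h1 : i.base z ∈ W₀ := W₀.ι_image_le W hz
        exact h1
      · rw [List.map_replicate, show germG (1 : Γ(W₀.toScheme, ⊤)) y = 1 from map_one _]
        exact isWeaklyRegular_replicate_one c _
  let P := Scheme.Modules.pullback V.ι
  obtain ⟨e⟩ := ExtShX.nonempty_R_restrict V N q
  have hz : IsZero ((ExtShX.R (P.obj N) q).obj (P.obj E)) := by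
    refine isZero_R rs (fun r hr => mulEnd_eq_zero_of_iso
      ((Scheme.Modules.restrictFunctorIsoPullback V.ι).app N) (hkill r hr)) _ (fun y => ?_) q (hlen ▸ hq)
    haveI : Module.Free (V.toScheme.presheaf.stalk y) ((DerSch.stalkFunctor V.toScheme y).obj (P.obj E)) :=
      LocFree.free_stalk_of_isFinLocFree (DerPerf.isFinLocFree_pullback V.ι hE) y
    exact isWeaklyRegular_free (hreg y)
  have hz2 : IsZero ((((ExtShX.R N q).obj E).restrict V.ι)) :=
    (hz.of_iso (e.app E)).of_iso ((Scheme.Modules.restrictFunctorIsoPullback V.ι).app _)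
  refine absurd ((GRLib.mem_support_restrict_iff V.ι _ ⟨x, hxV⟩).mpr hx) (fun h => h ?_)
  exact ExtShX.subsingleton_stalk_of_isZero hz2 (⟨x, hxV⟩ : V.toScheme)

theorem ext_subsingleton [HasExt.{u} X.Modules]
    (i : Z ⟶ X) [IsClosedImmersion i] (c : ℕ)
    (hi : RegImm.IsRegularImmersionOfCodim RegImm.Kind.regular c i) (E : X.Modules)
    (hE : FlatMod.IsFinLocFree E) (F : Z.Modules) (q : ℕ) (hq : q < c) :
    Subsingleton (Abelian.Ext ((Scheme.Modules.pushforward i).obj F) E q) := by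
  letI : X.Over (Spec (CommRingCat.of (ULift.{u} ℤ))) := ⟨specULiftZIsTerminal.from X⟩
  let N := (Scheme.Modules.pushforward i).obj F
  have h0 : ∀ j, j ≤ q → ∀ p, Subsingleton (Coh.HH X ((ExtShX.R N j).obj E) p) := fun j hj p => by
    have hz := Functor.map_isZero (SheafOfModules.toSheaf X.ringCatSheaf)
      (isZero_R_pushforward i c hi E hE F j (by omega))
    refine subsingleton_of_forall_eq 0 fun z => ?_
    rw [← Abelian.Ext.comp_mk₀_id z, hz.eq_of_src (𝟙 _) 0, Abelian.Ext.mk₀_zero, Abelian.Ext.comp_zero]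
  obtain ⟨e⟩ := ExtShX.ext_equiv_h0 (ULift.{u} ℤ) N q E fun j hj p => h0 j hj (p + 1)
  exact @Equiv.subsingleton _ _ e.toEquiv (h0 q le_rfl 0)

end Groth.Agent.RegImmExt
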